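import Mathlib
import Cfsg.Prelude.Def_SporadicCombinatorics

/-! The hexacode over a field with four elements, transported to a model on `Fin 4`. -/

set_option autoImplicit false

namespace Cfsg.Agent.Lib.Hexacode.Basic

/-- sum in the model `{0, 1, w, w^2}` -/
def kAdd : Fin 4 → Fin 4 → Fin 4 :=
  ![![0, 1, 2, 3], ![1, 0, 3, 2], ![2, 3, 0, 1], ![3, 2, 1, 0]]

/-- product in the model -/
def kMul : Fin 4 → Fin 4 → Fin 4 :=
  ![![0, 0, 0, 0], ![0, 1, 2, 3], ![0, 2, 3, 1], ![0, 3, 1, 2]]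

/-- membership test for the hexacode in systematic form -/
def inHexa (x : Fin 6 → Fin 4) : Bool :=
  x 3 == kAdd (kAdd (x 0) (x 1)) (x 2) &&
  x 4 == kAdd (kAdd (kMul 3 (x 0)) (kMul 2 (x 1))) (x 2) &&
  x 5 == kAdd (kAdd (kMul 2 (x 0)) (kMul 3 (x 1))) (x 2)

/-- the word with given first three coordinates -/
def kWord (t : Fin 4 × Fin 4 × Fin 4) : Fin 6 → Fin 4 :=
  ![t.1, t.2.1, t.2.2, kAdd (kAdd t.1 t.2.1) t.2.2,
    kAdd (kAdd (kMul 3 t.1) (kMul 2 t.2.1)) t.2.2,
    kAdd (kAdd (kMul 2 t.1) (kMul 3 t.2.1)) t.2.2]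

variable {F : Type*} [Field F] [Fintype F] {ω : F}

theorem two_eq_zero (hF : Fintype.card F = 4) : (2 : F) = 0 := by
  have h := Nat.cast_card_eq_zero F
  rw [hF] at h
  have h' : (2 : F) * 2 = 0 := by push_cast at h; linear_combination h
  simpa using h'

/-- the identification of the model with the field -/
def emb (ω : F) : Fin 4 → F := ![0, 1, ω, ω ^ 2]

theorem emb_bijective (hF : Fintype.card F = 4) (hω : ω ^ 2 + ω + 1 = 0) :
    Function.Bijective (emb ω) := by
  have h2 := two_eq_zero hF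
  have h0 : ω ≠ 0 := by rintro rfl; simp at hω
  have h1 : ω ≠ 1 := by
    rintro rfl
    have : (1 : F) = 0 := by linear_combination hω - h2
    exact one_ne_zero this
  have h3 : ω ^ 2 ≠ 0 := pow_ne_zero 2 h0
  have h4 : ω ^ 2 ≠ 1 := by
    intro h
    exact h0 (by linear_combination hω - h - h2)
  have h5 : ω ^ 2 ≠ ω := by
    intro h
    exact h1 (mul_left_cancel₀ h0 (by linear_combination h))
  rw [Fintype.bijective_iff_injective_and_card]
  refine ⟨?_, by simp [hF]⟩
  intro i j h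
  fin_cases i <;> fin_cases j <;>
    first
    | rfl
    | (exfalso; simp only [emb] at h; revert h; simp [h0, h1, h3, h4, h5, h0.symm, h1.symm,
        h3.symm, h4.symm, h5.symm])

theorem emb_add (hF : Fintype.card F = 4) (hω : ω ^ 2 + ω + 1 = 0) (a b : Fin 4) :
    emb ω (kAdd a b) = emb ω a + emb ω b := by
  have h2 := two_eq_zero hF
  fin_cases a <;> fin_cases b <;> simp [emb, kAdd] <;> grind

omit [Fintype F] in
theorem emb_mul (hω : ω ^ 2 + ω + 1 = 0) (a b : Fin 4) :
    emb ω (kMul a b) = emb ω a * emb ω b := by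
  fin_cases a <;> fin_cases b <;> simp [emb, kMul] <;> grind

theorem emb_ne_zero (hF : Fintype.card F = 4) (hω : ω ^ 2 + ω + 1 = 0) (a : Fin 4) :
    emb ω a ≠ 0 ↔ a ≠ 0 := by
  rw [← (emb_bijective hF hω).1.ne_iff (y := 0)]
  simp [emb]

theorem mem_hexacode_iff (hF : Fintype.card F = 4) (hω : ω ^ 2 + ω + 1 = 0) (x : Fin 6 → F) :
    x ∈ Cfsg.hexacode F ω ↔
      x 3 = x 0 + x 1 + x 2 ∧ x 4 = ω ^ 2 * x 0 + ω * x 1 + x 2 ∧
        x 5 = ω * x 0 + ω ^ 2 * x 1 + x 2 := by
  have h2 := two_eq_zero hF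
  constructor
  · intro hx
    unfold Cfsg.hexacode at hx
    induction hx using Submodule.span_induction with
    | mem y hy =>
      rcases hy with rfl | rfl | rfl <;>
        refine ⟨?_, ?_, ?_⟩ <;> simp <;> grind
    | zero => simp
    | add y z _ _ hy hz =>
      obtain ⟨a, b, c⟩ := hy
      obtain ⟨a', b', c'⟩ := hz
      simp only [Pi.add_apply]
      refine ⟨?_, ?_, ?_⟩
      · linear_combination a + a'
      · linear_combination b + b'
      · linear_combination c + c'
    | smul k y _ hy =>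
      obtain ⟨a, b, c⟩ := hy
      simp only [Pi.smul_apply, smul_eq_mul]
      refine ⟨?_, ?_, ?_⟩
      · linear_combination k * a
      · linear_combination k * b
      · linear_combination k * c
  · rintro ⟨a, b, c⟩
    unfold Cfsg.hexacode
    rw [Submodule.mem_span_triple]
    refine ⟨x 0 * ω + x 1 * ω ^ 2, x 0 * ω ^ 2 + x 1 * ω ^ 2 + x 2, x 1 + x 2, ?_⟩
    funext i
    fin_cases i <;> simp <;> grind

omit [Fintype F] in
theorem emb_two : emb ω 2 = ω := rfl

omit [Fintype F] in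
theorem emb_three : emb ω 3 = ω ^ 2 := rfl

theorem emb_comp_mem_iff (hF : Fintype.card F = 4) (hω : ω ^ 2 + ω + 1 = 0) (w : Fin 6 → Fin 4) :
    (emb ω ∘ w) ∈ Cfsg.hexacode F ω ↔ inHexa w = true := by
  rw [mem_hexacode_iff hF hω]
  simp only [inHexa, Bool.and_eq_true, beq_iff_eq, Function.comp_apply, and_assoc]
  simp only [← (emb_bijective hF hω).1.eq_iff, emb_add hF hω, emb_mul hω, emb_two, emb_three]

theorem inHexa_iff (w : Fin 6 → Fin 4) : inHexa w = true ↔ w = kWord (w 0, w 1, w 2) := by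
  simp only [inHexa, Bool.and_eq_true, beq_iff_eq, and_assoc]
  constructor
  · rintro ⟨a, b, c⟩
    funext i
    fin_cases i <;> simp [kWord, a, b, c]
  · intro h
    refine ⟨?_, ?_, ?_⟩
    · exact congrFun h 3
    · exact congrFun h 4
    · exact congrFun h 5

theorem kWord_injective : Function.Injective kWord := by
  rintro ⟨a, b, c⟩ ⟨a', b', c'⟩ h
  have e0 := congrFun h 0
  have e1 := congrFun h 1
  have e2 := congrFun h 2
  simp only [kWord] at e0 e1 e2
  simp_all

/-- the codeword of the field attached to a triple of the model -/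
def wordOf (ω : F) (t : Fin 4 × Fin 4 × Fin 4) : Fin 6 → F := emb ω ∘ kWord t

theorem wordOf_injective (hF : Fintype.card F = 4) (hω : ω ^ 2 + ω + 1 = 0) :
    Function.Injective (wordOf ω) :=
  fun _ _ h => kWord_injective ((emb_bijective hF hω).1.comp_left h)

theorem mem_iff_exists_wordOf (hF : Fintype.card F = 4) (hω : ω ^ 2 + ω + 1 = 0) (x : Fin 6 → F) :
    x ∈ Cfsg.hexacode F ω ↔ ∃ t, wordOf ω t = x := by
  obtain ⟨w, rfl⟩ := (emb_bijective hF hω).2.comp_left x
  rw [emb_comp_mem_iff hF hω, inHexa_iff]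
  constructor
  · intro h
    exact ⟨_, congrArg (emb ω ∘ ·) h.symm⟩
  · rintro ⟨t, ht⟩
    have : kWord t = w := (emb_bijective hF hω).1.comp_left ht
    subst this
    rfl

end Cfsg.Agent.Lib.Hexacode.Basic
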